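import Cfsg.Agent.H917.Conj.Basic
import Cfsg.Agent.H514.DP.Cyc_m3
import Cfsg.Agent.H129.CycRow
import Cfsg.Agent.Prune
set_option linter.all false
prune_inst 0x7f00000000000000000000000000000000000000000000000000000000000000000000000000000000000000000000000000000000000000000000000000000000000000000000000000000000000000003ffdffffffffffffffffffffffffbeffbdefffffff
open scoped Cfsg.Agent.FastGrp

/-!
# The conjugation character: cyclic CC-subgroups (helper507)

* `row_of_exact` : `G` simple non-abelian with a cyclic subgroup `T` of order `t > 1` which is the centraliser of each of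
  its nontrivial elements, all irreducible representations of degree `≥ 2` have degree `≥ d`,
  `(t - 1) ^ 2 * t < d ^ 2`: then `Row G`.
-/

set_option autoImplicit false

open Cfsg
open scoped ComplexConjugate

namespace Cfsg.Agent.H507.Conj

open Cfsg.Agent.H430.Conj Cfsg.Agent.H514.DP Cfsg.Agent.Characters Cfsg.Agent.H686.CharKit

universe u

/-- `|χ(g)|² ≤ |C(g)|` -/
theorem normSq_le_card {G : Type u} [Group G] [Finite G] {χ : G → ℂ} (hχ : IsIrrCharacter G χ) (g : G) :
    Complex.normSq (χ g) ≤ Nat.card (Subgroup.centralizer ({g} : Set G)) := by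
  classical
  have := Core.finite_irr (G := G)
  have := Fintype.ofFinite (IrrCharacter G)
  have h1 := sum_normSq (G := G) g
  rw [← h1]
  exact Finset.single_le_sum (f := fun χ : IrrCharacter G => Complex.normSq ((χ : G → ℂ) g))
    (fun χ _ => Complex.normSq_nonneg _) (Finset.mem_univ (⟨χ, hχ⟩ : IrrCharacter G))

/-- a CC-subgroup `T` without fixed vectors bounds the degree -/
theorem degree_lt {G : Type u} [Group G] [Finite G] {T : Subgroup G} (hT : ∀ y ∈ T, y ≠ 1 → Subgroup.centralizer {y} = T) {χ : G → ℂ} (hχ : IsIrrCharacter G χ) {n : ℕ}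
    (hn : χ 1 = n) (h : ¬ HasFix T χ) : n ^ 2 ≤ (Nat.card T - 1) ^ 2 * Nat.card T := by
  classical
  have := Fintype.ofFinite T
  unfold HasFix at h
  push Not at h
  rw [finsum_eq_sum_of_fintype, ← Finset.add_sum_erase _ _ (Finset.mem_univ (1 : T))] at h
  have h1 : χ ((1 : T) : G) = n := by rw [Subgroup.coe_one, hn]
  rw [h1] at h
  have h2 : (n : ℝ) ≤ ∑ c ∈ Finset.univ.erase (1 : T), ‖χ c‖ := by
    have h3 : (n : ℂ) = - ∑ c ∈ Finset.univ.erase (1 : T), χ c := eq_neg_of_add_eq_zero_left h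
    have h4 : (n : ℝ) = ‖(n : ℂ)‖ := (Complex.norm_natCast n).symm
    rw [h4, h3, norm_neg]
    exact norm_sum_le _ _
  have h3 : ∀ c ∈ Finset.univ.erase (1 : T), ‖χ c‖ ≤ Real.sqrt (Nat.card T) := by
    intro c hc
    have hc1 : (c : G) ≠ 1 := fun h => (Finset.mem_erase.1 hc).1 (Subtype.ext h)
    have h4 := normSq_le_card hχ (c : G)
    rw [hT c c.2 hc1, Complex.normSq_eq_norm_sq] at h4
    exact Real.le_sqrt_of_sq_le h4
  have h4 : (n : ℝ) ≤ ((Nat.card T - 1 : ℕ) : ℝ) * Real.sqrt (Nat.card T) := by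
    refine h2.trans ((Finset.sum_le_sum h3).trans ?_)
    rw [Finset.sum_const, Finset.card_erase_of_mem (Finset.mem_univ _), Finset.card_univ, nsmul_eq_mul,
      ← Nat.card_eq_fintype_card]
  have h5 : (n : ℝ) ^ 2 ≤ ((Nat.card T - 1 : ℕ) : ℝ) ^ 2 * Nat.card T := by
    calc (n : ℝ) ^ 2 ≤ (((Nat.card T - 1 : ℕ) : ℝ) * Real.sqrt (Nat.card T)) ^ 2 :=
          pow_le_pow_left₀ (Nat.cast_nonneg n) h4 2
      _ = ((Nat.card T - 1 : ℕ) : ℝ) ^ 2 * Nat.card T := by
          rw [mul_pow, Real.sq_sqrt (Nat.cast_nonneg _)]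
  exact_mod_cast h5

/-- **CC-subgroups.** -/
theorem row_of_cc_minDeg {G : Type u} [Group G] [Finite G] (hperf : commutator G = ⊤) {T : Subgroup G}
    (hT1 : 1 < Nat.card T) (hT : ∀ y ∈ T, y ≠ 1 → Subgroup.centralizer {y} = T) {d : ℕ} (hd : MinDeg G d)
    (h : (Nat.card T - 1) ^ 2 * Nat.card T < d ^ 2) : Row G := by
  intro χ hχ
  obtain ⟨x, hx, hx1⟩ := (Subgroup.bot_or_exists_ne_one T).resolve_left (by
    rintro rfl
    rw [Subgroup.card_bot] at hT1
    exact lt_irrefl _ hT1)
  refine ⟨x, ?_⟩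
  rw [hT x hx hx1]
  by_contra hno
  have h1 : χ ≠ 1 := by
    rintro rfl
    exact hno (hasFix_one T)
  obtain ⟨n, hn, -, hn1⟩ := hd.le hχ fun h2 => h1 (eq_one_of_perf hperf hχ h2)
  have h3 := degree_lt hT hχ hn1 hno
  have h4 : d ^ 2 ≤ n ^ 2 := Nat.pow_le_pow_left hn 2
  omega

/-- **Cyclic CC-subgroups in the form of helper129.** -/
theorem row_of_exact {G : Type u} [Group G] [Finite G] [IsSimpleGroup G] (hna : ¬ IsMulCommutative G) {t d : ℕ}
    (hT : H129.CycT.CycExact G t) (ht : 1 < t) (hd : MinDeg G d) (h : (t - 1) ^ 2 * t < d ^ 2) : Row G := by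
  obtain ⟨T, -, rfl, hc⟩ := hT
  refine row_of_cc_minDeg ?_ ht hc hd h
  rcases (inferInstance : (commutator G).Normal).eq_bot_or_eq_top with h1 | h1
  · exfalso
    apply hna
    constructor
    constructor
    intro a b
    have h2 : a * b * a⁻¹ * b⁻¹ ∈ commutator G := by
      have h3 := Subgroup.commutator_mem_commutator (Subgroup.mem_top a) (Subgroup.mem_top b)
      rwa [commutatorElement_def] at h3
    rw [h1, Subgroup.mem_bot] at h2
    have h3 := mul_inv_eq_one.1 h2
    rw [mul_inv_eq_iff_eq_mul] at h3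
    exact h3
  · exact h1

end Cfsg.Agent.H507.Conj
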